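import Mathlib
import Cfsg.Agent.Lib.Helper55.OOG.Defs

/-!
# OOG (S2413): packages [COP], [CHAR], [SPAN]

* `pkgCop`: commuting elements with coprime exponents are powers of their product.
* `pkgChar`: the characteristic of a finite field `F` is prime to `|F| - 1`.
* `pkgSpan`: a finite field of odd order is additively generated by the powers of `k²`,
  `k` a generator of the multiplicative group.
-/

set_option autoImplicit false

namespace Cfsg.Agent.Lib.Helper26.OOG

open Cfsg.Agent.Lib.Helper55.OOG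

universe u

/-- [COP] -/
theorem pkgCop : PkgCop.{u} := by
  intro G _ s h A B hAB hc hs hh
  have hcomm : Commute s h := hc
  have h1 : (s * h) ^ B = s ^ B := by rw [hcomm.mul_pow, hh, mul_one]
  have h2 : (s * h) ^ A = h ^ A := by rw [hcomm.mul_pow, hs, one_mul]
  have hbez : (A : ℤ) * Nat.gcdA A B + (B : ℤ) * Nat.gcdB A B = 1 := by
    have h3 := Nat.gcd_eq_gcd_ab A B
    rw [Nat.Coprime] at hAB
    rw [hAB] at h3
    simpa using h3.symm
  constructor
  · refine Subgroup.mem_zpowers_iff.mpr ⟨(B : ℤ) * Nat.gcdB A B, ?_⟩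
    rw [zpow_mul, zpow_natCast, h1, ← zpow_natCast, ← zpow_mul]
    have h4 : (B : ℤ) * Nat.gcdB A B = 1 - (A : ℤ) * Nat.gcdA A B := by linarith
    rw [h4, zpow_sub, zpow_one, zpow_mul, zpow_natCast, hs, one_zpow, inv_one, mul_one]
  · refine Subgroup.mem_zpowers_iff.mpr ⟨(A : ℤ) * Nat.gcdA A B, ?_⟩
    rw [zpow_mul, zpow_natCast, h2, ← zpow_natCast, ← zpow_mul]
    have h4 : (A : ℤ) * Nat.gcdA A B = 1 - (B : ℤ) * Nat.gcdB A B := by linarith
    rw [h4, zpow_sub, zpow_one, zpow_mul, zpow_natCast, hh, one_zpow, inv_one, mul_one]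

/-- [CHAR] -/
theorem pkgChar : PkgChar.{u} := by
  intro F _ _
  refine ⟨ringChar F, CharP.cast_eq_zero F (ringChar F), ?_⟩
  obtain ⟨n, hp, hq⟩ := FiniteField.card F (ringChar F)
  have hdvd : ringChar F ∣ Fintype.card F := by
    rw [hq]; exact dvd_pow_self _ n.ne_zero
  have hpos : 0 < Fintype.card F := Fintype.card_pos
  rw [Nat.Prime.coprime_iff_not_dvd hp]
  intro h
  have h1 : ringChar F ∣ Fintype.card F - (Fintype.card F - 1) := Nat.dvd_sub hdvd h
  have h2 : Fintype.card F - (Fintype.card F - 1) = 1 := by omega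
  rw [h2] at h1
  exact hp.one_lt.ne' (Nat.dvd_one.mp h1)

/-- in a finite field of odd order every element is a sum of two squares. -/
theorem span_sq_add_sq {F : Type u} [Field F] [Fintype F] (ho : Odd (Fintype.card F)) (x : F) :
    ∃ a b : F, a ^ 2 + b ^ 2 = x := by
  obtain ⟨a, b, hab⟩ := FiniteField.exists_root_sum_quadratic (R := F) (f := Polynomial.X ^ 2)
      (g := Polynomial.X ^ 2 - Polynomial.C x) (Polynomial.degree_X_pow 2)
      (Polynomial.degree_X_pow_sub_C (by decide) _) (Nat.odd_iff.1 ho)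
  refine ⟨a, b, ?_⟩
  simp only [Polynomial.eval_pow, Polynomial.eval_X, Polynomial.eval_sub,
    Polynomial.eval_C] at hab
  linear_combination hab

/-- [SPAN] -/
theorem pkgSpan : PkgSpan.{u} := by
  intro F _ _ ho
  classical
  obtain ⟨g, hg⟩ := IsCyclic.exists_generator (α := Fˣ)
  refine ⟨(g : F), g.ne_zero, ?_⟩
  intro A h1 hA
  have hpow : ∀ j : ℕ, ((g : F) * g) ^ j ∈ A := by
    intro j
    induction j with
    | zero => simpa using h1
    | succ j ih =>
      rw [pow_succ']
      exact hA _ ih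
  have hsq : ∀ a : F, a ^ 2 ∈ A := by
    intro a
    by_cases ha : a = 0
    · subst ha
      simp
    · obtain ⟨j, hj⟩ : ∃ j : ℕ, g ^ j = Units.mk0 a ha :=
        (Submonoid.mem_powers_iff _ _).mp (mem_powers_iff_mem_zpowers.mpr (hg (Units.mk0 a ha)))
      have hj' : (g : F) ^ j = a := by
        have h2 := congrArg (fun u : Fˣ => (u : F)) hj
        simpa using h2
      have h3 : a ^ 2 = ((g : F) * g) ^ j := by rw [← hj']; ring
      rw [h3]; exact hpow j
  rw [eq_top_iff]
  intro x _
  obtain ⟨a, b, hab⟩ := span_sq_add_sq ho x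
  rw [← hab]
  exact A.add_mem (hsq a) (hsq b)

end Cfsg.Agent.Lib.Helper26.OOG
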