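import Mathlib
import Cfsg.Agent.Lib.Helper55.OOG.Defs

/-!
# OOG (S2413): packages [COXB] and [ORB]

* `pkgCoxB`: a Weyl element at the index `0` times a signed cyclic shift is a Coxeter element.
* `pkgOrb`: the orbit of `e₀` under the powers of a Coxeter element contains a multiple of
  every `e_i` and every `f_i`.
-/

set_option autoImplicit false
open scoped Matrix

namespace Cfsg.Agent.Lib.Helper26.OOG

open Cfsg.Agent.Lib.Helper55.OOG

universe u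

/-- [COXB] -/
theorem pkgCoxB : PkgCoxB.{u} := by
  intro n F _ n₀ c hw hs
  obtain ⟨hwE, hwF, hwT, hwj⟩ := hw
  obtain ⟨hsi, ⟨ε, hε, hsE, hsF⟩, hsT⟩ := hs
  refine ⟨fun i => ⟨?_, ?_⟩, ⟨-ε, neg_ne_zero.mpr hε, ?_⟩,
    ⟨-ε⁻¹, neg_ne_zero.mpr (inv_ne_zero hε), ?_⟩, ⟨-1, by simp, ?_⟩⟩
  · rw [mul_act, (hsi i).1]; exact (hwj i.succ (Fin.succ_ne_zero i)).1
  · rw [mul_act, (hsi i).2]; exact (hwj i.succ (Fin.succ_ne_zero i)).2
  · rw [mul_act, hsE, Matrix.mulVec_smul, hwE, smul_neg, neg_smul]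
  · rw [mul_act, hsF, Matrix.mulVec_smul, hwF, smul_neg, neg_smul]
  · rw [mul_act, hsT, hwT, neg_smul, one_smul]

theorem orb_T0 {n : ℕ} {F : Type u} [Field F] (b : ↥(Iso (n + 1) F)) (δ : F)
    (hδ : mat b *ᵥ (T0 : Vec (n + 1) F) = δ • T0) (k : ℕ) :
    mat (b ^ k) *ᵥ (T0 : Vec (n + 1) F) = δ ^ k • T0 := by
  induction k with
  | zero => rw [pow_zero, one_act, pow_zero, one_smul]
  | succ k ih => rw [pow_succ', mul_act, ih, Matrix.mulVec_smul, hδ, smul_smul, pow_succ]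

theorem orb_E {n : ℕ} {F : Type u} [Field F] (b : ↥(Iso (n + 1) F))
    (hb : ∀ i : Fin n, mat b *ᵥ (E i.castSucc : Vec (n + 1) F) = E i.succ) (k : ℕ)
    (hk : k < n + 1) : mat (b ^ k) *ᵥ (E 0 : Vec (n + 1) F) = E ⟨k, hk⟩ := by
  induction k with
  | zero => rw [pow_zero, one_act]; rfl
  | succ k ih =>
    have hk' : k < n := by omega
    rw [pow_succ', mul_act, ih (by omega)]
    exact hb ⟨k, hk'⟩

theorem orb_F {n : ℕ} {F : Type u} [Field F] (b : ↥(Iso (n + 1) F))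
    (hb : ∀ i : Fin n, mat b *ᵥ (Fv i.castSucc : Vec (n + 1) F) = Fv i.succ) (k : ℕ)
    (hk : k < n + 1) : mat (b ^ k) *ᵥ (Fv 0 : Vec (n + 1) F) = Fv ⟨k, hk⟩ := by
  induction k with
  | zero => rw [pow_zero, one_act]; rfl
  | succ k ih =>
    have hk' : k < n := by omega
    rw [pow_succ', mul_act, ih (by omega)]
    exact hb ⟨k, hk'⟩

/-- [ORB] -/
theorem pkgOrb : PkgOrb.{u} := by
  intro n F _ b hb i
  obtain ⟨hbi, ⟨ε, hε, hbE⟩, ⟨ε', hε', hbF⟩, ⟨δ, hδ, hbT⟩⟩ := hb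
  have hE := orb_E b (fun j => (hbi j).1)
  have hF := orb_F b (fun j => (hbi j).2)
  have hT := orb_T0 b δ hbT
  constructor
  · refine ⟨b ^ i.val, Subgroup.npow_mem_zpowers b _, 1, δ ^ i.val, one_ne_zero,
      pow_ne_zero _ hδ, ?_, hT _⟩
    rw [hE i.val i.isLt, one_smul]
  · refine ⟨b ^ (i.val + (n + 1)), Subgroup.npow_mem_zpowers b _, ε, δ ^ (i.val + (n + 1)), hε,
      pow_ne_zero _ hδ, ?_, hT _⟩
    rw [pow_add, mul_act, pow_succ', mul_act, hE n (by omega)]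
    have hlast : (⟨n, by omega⟩ : Fin (n + 1)) = Fin.last n := rfl
    rw [hlast, hbE, Matrix.mulVec_smul, hF i.val i.isLt]

end Cfsg.Agent.Lib.Helper26.OOG
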