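import Mathlib
import Cfsg.Agent.Lib.Helper55.OOG.Defs
import Cfsg.Agent.Lib.Helper55.OOG.Defs2

/-!
# OOG (S2413): package [RED2S]

A vector `p` with `x_{i₀}(p) ≠ 0` is moved by a product of root elements `ρ_{f_{i₀}, w}` to a
vector in `⟨e_{i₀}, f_{i₀}⟩` with the same `x_{i₀}`.
-/

set_option autoImplicit false
open scoped Matrix

namespace Cfsg.Agent.Lib.Helper26.OOG

open Cfsg.Agent.Lib.Helper55.OOG

universe u

/-- the action of `ρ_{f_{i₀}, w}` on the coordinates other than `y_{i₀}`. -/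
theorem red2_coord {m : ℕ} {F : Type u} [Field F] (i₀ : Fin m) (v w : Vec m F)
    (σ : ↥(Iso m F)) (hσ : IsSieg (Fv i₀) w σ) (k : Unit ⊕ (Fin m ⊕ Fin m))
    (hk : k ≠ Sum.inr (Sum.inr i₀)) :
    (mat σ *ᵥ v) k = v k + v (Sum.inr (Sum.inl i₀)) * w k := by
  rw [hσ v, B_Fv]
  simp [Pi.single_apply, hk]

theorem red2_stepT (hE : PkgExist.{u}) {m : ℕ} {F : Type u} [Field F]
    (K : Subgroup ↥(Iso m F)) (hS : HasS K) (i₀ : Fin m) (c : F) :
    ∃ σ ∈ K, IsSieg (Fv i₀) (c • T0) σ := by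
  obtain ⟨σ, hσ⟩ := hE m F (Fv i₀) (c • T0) (Q_Fv i₀)
    (by rw [B_smul_right, B_Fv_T0, mul_zero])
  exact ⟨σ, (hS i₀ c σ).2 hσ, hσ⟩

theorem red2_stepE (hE : PkgExist.{u}) {m : ℕ} {F : Type u} [Field F]
    (K : Subgroup ↥(Iso m F)) (hL : HasLong K) (i₀ j : Fin m) (hj : j ≠ i₀) (c : F) :
    ∃ σ ∈ K, IsSieg (Fv i₀) (c • E j) σ := by
  obtain ⟨σ, hσ⟩ := hE m F (Fv i₀) (c • E j) (Q_Fv i₀)
    (by rw [B_smul_right, B_Fv_E, if_neg hj.symm, mul_zero])
  exact ⟨σ, (hL j i₀ hj c σ).2.2.1 hσ, hσ⟩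

theorem red2_stepF (hE : PkgExist.{u}) {m : ℕ} {F : Type u} [Field F]
    (K : Subgroup ↥(Iso m F)) (hL : HasLong K) (i₀ j : Fin m) (hj : j ≠ i₀) (c : F) :
    ∃ σ ∈ K, IsSieg (Fv i₀) (c • Fv j) σ := by
  obtain ⟨σ, hσ⟩ := hE m F (Fv i₀) (c • Fv j) (Q_Fv i₀)
    (by rw [B_smul_right, B_Fv_Fv, mul_zero])
  exact ⟨σ, (hL j i₀ hj c σ).2.2.2 hσ, hσ⟩

/-- [RED2S] -/
theorem pkgRed2S_of (hE : PkgExist.{u}) : PkgRed2S.{u} := by
  intro m F _ K hS hL i₀ p hp
  classical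
  have key : ∀ s : Finset (Fin m), ∃ g ∈ K, (mat g *ᵥ p) (Sum.inl ()) = 0 ∧
      (mat g *ᵥ p) (Sum.inr (Sum.inl i₀)) = p (Sum.inr (Sum.inl i₀)) ∧
      ∀ j ∈ s, j ≠ i₀ →
        (mat g *ᵥ p) (Sum.inr (Sum.inl j)) = 0 ∧ (mat g *ᵥ p) (Sum.inr (Sum.inr j)) = 0 := by
    intro s
    induction s using Finset.induction_on with
    | empty =>
      obtain ⟨σ, hσK, hσ⟩ :=
        red2_stepT hE K hS i₀ (-(p (Sum.inl ())) / p (Sum.inr (Sum.inl i₀)))
      refine ⟨σ, hσK, ?_, ?_, ?_⟩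
      · rw [red2_coord i₀ p _ σ hσ _ (by simp)]
        simp only [Pi.smul_apply, Pi.single_eq_same, smul_eq_mul, mul_one]
        field_simp
        ring
      · rw [red2_coord i₀ p _ σ hσ _ (by simp)]
        simp
      · intro j hj
        simp at hj
    | insert j s hjs ih =>
      obtain ⟨g', hg'K, h1, h2, h3⟩ := ih
      by_cases hji : j = i₀
      · refine ⟨g', hg'K, h1, h2, ?_⟩
        intro j' hj' hj'i
        rw [Finset.mem_insert] at hj'
        rcases hj' with hj' | hj'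
        · exact absurd (hj' ▸ hji) hj'i
        · exact h3 j' hj' hj'i
      · obtain ⟨v, hv⟩ : ∃ v : Vec m F, v = mat g' *ᵥ p := ⟨_, rfl⟩
        rw [← hv] at h1 h2 h3
        have ha : v (Sum.inr (Sum.inl i₀)) ≠ 0 := by rw [h2]; exact hp
        obtain ⟨σ₁, hσ₁K, hσ₁⟩ := red2_stepE hE K hL i₀ j hji
          (-(v (Sum.inr (Sum.inl j))) / v (Sum.inr (Sum.inl i₀)))
        obtain ⟨v₁, hv₁⟩ : ∃ v₁ : Vec m F, v₁ = mat σ₁ *ᵥ v := ⟨_, rfl⟩
        have c1 : ∀ k, k ≠ Sum.inr (Sum.inr i₀) → v₁ k = v k + v (Sum.inr (Sum.inl i₀)) *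
            ((-(v (Sum.inr (Sum.inl j))) / v (Sum.inr (Sum.inl i₀))) • (E j : Vec m F)) k := by
          intro k hk
          rw [hv₁, red2_coord i₀ v _ σ₁ hσ₁ k hk]
        have hv₁a : v₁ (Sum.inr (Sum.inl i₀)) = v (Sum.inr (Sum.inl i₀)) := by
          rw [c1 _ (by simp)]
          simp [Pi.single_apply, Ne.symm hji]
        obtain ⟨σ₂, hσ₂K, hσ₂⟩ := red2_stepF hE K hL i₀ j hji
          (-(v₁ (Sum.inr (Sum.inr j))) / v (Sum.inr (Sum.inl i₀)))
        have c2 : ∀ k, k ≠ Sum.inr (Sum.inr i₀) → (mat σ₂ *ᵥ v₁) k = v₁ k +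
            v (Sum.inr (Sum.inl i₀)) *
            ((-(v₁ (Sum.inr (Sum.inr j))) / v (Sum.inr (Sum.inl i₀))) • (Fv j : Vec m F)) k := by
          intro k hk
          rw [red2_coord i₀ v₁ _ σ₂ hσ₂ k hk, hv₁a]
        have hgoal : ∀ k, (mat (σ₂ * σ₁ * g') *ᵥ p) k = (mat σ₂ *ᵥ v₁) k := by
          intro k
          rw [mul_act, mul_act, ← hv, ← hv₁]
        refine ⟨σ₂ * σ₁ * g', K.mul_mem (K.mul_mem hσ₂K hσ₁K) hg'K, ?_, ?_, ?_⟩
        · rw [hgoal, c2 _ (by simp), c1 _ (by simp), h1]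
          simp
        · rw [hgoal, c2 _ (by simp), hv₁a, h2]
          simp
        · intro j' hj' hj'i
          rw [Finset.mem_insert] at hj'
          have hne1 : (Sum.inr (Sum.inl j') : Unit ⊕ (Fin m ⊕ Fin m)) ≠ Sum.inr (Sum.inr i₀) := by
            simp
          have hne2 : (Sum.inr (Sum.inr j') : Unit ⊕ (Fin m ⊕ Fin m)) ≠ Sum.inr (Sum.inr i₀) := by
            simpa using hj'i
          rw [hgoal, hgoal, c2 _ hne1, c2 _ hne2]
          rcases hj' with hj' | hj'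
          · subst hj'
            constructor
            · rw [c1 _ hne1]
              simp only [Pi.smul_apply, Pi.single_eq_same, smul_eq_mul, mul_one]
              simp
              field_simp
              ring
            · simp only [Pi.smul_apply, Pi.single_eq_same, smul_eq_mul, mul_one]
              field_simp
              ring
          · have hjj' : j' ≠ j := fun h => hjs (h ▸ hj')
            obtain ⟨hx, hy⟩ := h3 j' hj' hj'i
            constructor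
            · rw [c1 _ hne1, hx]
              simp [Pi.single_apply, hjj']
            · rw [c1 _ hne2, hy]
              simp [Pi.single_apply, hjj']
  obtain ⟨g, hgK, h1, h2, h3⟩ := key Finset.univ
  exact ⟨g, hgK, h1, h2, fun j hj => h3 j (Finset.mem_univ j) hj⟩

end Cfsg.Agent.Lib.Helper26.OOG
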